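import Groth.Agent.AssTensorSch.FibNoeth
import Groth.Agent.Triage.CMBC
import Groth.Agent.AlgSpLib.Descent2

/-!
# Locally Noetherian fibres and base change
-/

set_option autoImplicit false
set_option backward.isDefEq.respectTransparency false
universe u
open CategoryTheory CategoryTheory.Limits AlgebraicGeometry

namespace Groth.Agent.NoethFibres

theorem isLocallyNoetherian_of_affine_flat {X Y : Scheme.{u}} (f : X ⟶ Y) [IsAffineHom f] [Flat f]
    [Surjective f] [IsLocallyNoetherian X] : IsLocallyNoetherian Y := by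
  refine ⟨fun V => ?_⟩
  haveI : IsAffine (V.1 : Scheme.{u}) := V.2
  haveI : IsAffine (f ⁻¹ᵁ V.1 : Scheme.{u}) := V.2.preimage f
  have : Surjective (f ∣_ V.1) := IsZariskiLocalAtTarget.restrict (P := @Surjective) ‹_› _
  have : Flat (f ∣_ V.1) := IsZariskiLocalAtTarget.restrict (P := @Flat) ‹_› _
  have : IsNoetherianRing Γ(f ⁻¹ᵁ V.1, ⊤) := IsLocallyNoetherian.component_noetherian ⟨⊤, isAffineOpen_top _⟩
  have hff := (Flat.flat_and_surjective_iff_faithfullyFlat_of_isAffine (f := f ∣_ V.1)).1
    ⟨inferInstance, inferInstance⟩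
  algebraize [(f ∣_ V.1).appTop.hom]
  have h1 : IsNoetherianRing Γ(V.1, ⊤) :=
    AlgSpLib.isNoetherianRing_of_faithfullyFlat _ Γ(f ⁻¹ᵁ V.1, ⊤)
  exact isNoetherianRing_of_ringEquiv Γ(V.1, ⊤) V.1.topIso.commRingCatIsoToRingEquiv

theorem fibres_iff {X Y X' Y' : Scheme.{u}} {f : X ⟶ Y} {f' : X' ⟶ Y'} {g' : X' ⟶ X} {g : Y' ⟶ Y}
    [LocallyOfFiniteType g] [Surjective g] (hc : IsPullback g' f' f g) :
    (∀ y : Y, IsLocallyNoetherian (f.fiber y)) ↔ ∀ y' : Y', IsLocallyNoetherian (f'.fiber y') := by
  haveI : LocallyOfFiniteType g' :=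
    MorphismProperty.of_isPullback (P := @LocallyOfFiniteType) hc.flip inferInstance
  constructor
  · intro h y'
    haveI := h (g y')
    haveI : IsLocallyNoetherian ((g' ≫ f).fiber (g y')) :=
      Triage.CMBC.isLocallyNoetherian_fibre_comp g' f _
    let j : f'.fiber y' ⟶ (g' ≫ f).fiber (g y') :=
      pullback.lift (f'.fiberι y') (f'.fiberToSpecResidueField y' ≫ Spec.map (g.residueFieldMap y')) (by
        rw [hc.w, Category.assoc, Scheme.Hom.SpecMap_residueFieldMap_fromSpecResidueField,
          ← Category.assoc, ← Category.assoc]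
        congr 1
        exact pullback.condition)
    have hj : j ≫ (g' ≫ f).fiberι (g y') = f'.fiberι y' := pullback.lift_fst _ _ _
    haveI := AssTensorSch.isAffineHom_fromSpecResidueField y'
    haveI := AssTensorSch.isAffineHom_fromSpecResidueField (g y')
    haveI : IsAffineHom (f'.fiberι y') := MorphismProperty.pullback_fst _ _ inferInstance
    haveI : IsAffineHom ((g' ≫ f).fiberι (g y')) := MorphismProperty.pullback_fst _ _ inferInstance
    haveI : IsAffineHom (j ≫ (g' ≫ f).fiberι (g y')) := by rw [hj]; infer_instance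
    haveI : IsPreimmersion (j ≫ (g' ≫ f).fiberι (g y')) := by rw [hj]; infer_instance
    haveI : IsAffineHom j := .of_comp j ((g' ≫ f).fiberι (g y'))
    haveI : IsPreimmersion j := IsPreimmersion.of_comp j ((g' ≫ f).fiberι (g y'))
    exact AssTensorSch.isLocallyNoetherian_of_affine_preimmersion j
  · intro h y
    obtain ⟨y', rfl⟩ := g.surjective y
    haveI := h y'
    let φ := Spec.map (g.residueFieldMap y')
    have hsq : φ ≫ Y.fromSpecResidueField (g y') = Y'.fromSpecResidueField y' ≫ g :=
      Scheme.Hom.SpecMap_residueFieldMap_fromSpecResidueField _ _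
    have big : IsPullback (f'.fiberι y' ≫ g') (f'.fiberToSpecResidueField y') f
        (φ ≫ Y.fromSpecResidueField (g y')) := by
      rw [hsq]
      exact (IsPullback.of_hasPullback f' (Y'.fromSpecResidueField y')).flip.paste_vert hc.flip |>.flip
    let p : f'.fiber y' ⟶ f.fiber (g y') :=
      pullback.lift (f'.fiberι y' ≫ g') (f'.fiberToSpecResidueField y' ≫ φ) (by rw [big.w, Category.assoc])
    have small : IsPullback p (f'.fiberToSpecResidueField y') (f.fiberToSpecResidueField (g y')) φ :=
      IsPullback.of_right (by rwa [pullback.lift_fst]) (pullback.lift_snd _ _ _)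
        (IsPullback.of_hasPullback f (Y.fromSpecResidueField (g y')))
    haveI : Surjective φ := ⟨Function.surjective_to_subsingleton (α := PrimeSpectrum _)
      (β := PrimeSpectrum (Y.residueField (g y'))) φ⟩
    haveI : Flat φ := by
      rw [HasRingHomProperty.Spec_iff (P := @Flat)]
      algebraize [(g.residueFieldMap y').hom]
      exact RingHom.flat_algebraMap_iff.mpr inferInstance
    haveI : IsAffineHom p := MorphismProperty.of_isPullback small.flip inferInstance
    haveI : Flat p := MorphismProperty.of_isPullback small.flip ‹Flat φ›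
    haveI : Surjective p := MorphismProperty.of_isPullback small.flip ‹Surjective φ›
    exact isLocallyNoetherian_of_affine_flat p

end Groth.Agent.NoethFibres
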